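import Cfsg.Agent.Lib.PReduced.StrongFusion

/-!
A finite group all of whose 2-elements are 2-central has abelian Sylow 2-subgroups.

The proof avoids any classification: real 2-elements are involutions, so the involutions of a Sylow
2-subgroup form a strongly closed elementary abelian subgroup `W`; it controls strong fusion, hence is
central in `P`, and induction applies to `N_G(W) / W`.
-/

set_option autoImplicit false

namespace Cfsg.Agent.Lib.Coprime.OddClass

open Subgroup Cfsg.Agent.Lib.PReduced.StrongFusion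

universe u

/-- A `2`-central hypothesis on a group. -/
def TwoCentral (G : Type u) [Group G] : Prop :=
  ∀ x : G, (∃ k : ℕ, orderOf x = 2 ^ k) → ∃ Q : Sylow 2 G, (Q : Subgroup G) ≤ centralizer ({x} : Set G)

variable {G : Type u} [Group G] [Finite G]

/-- An element of `p`-power order normalizing a Sylow subgroup lies in it. -/
theorem mem_of_normalizer {p : ℕ} [Fact p.Prime] (P : Sylow p G) {y : G} {k : ℕ} (hy : y ^ (p ^ k) = 1)
    (hn : y ∈ normalizer ((P : Subgroup G) : Set G)) : y ∈ (P : Subgroup G) := by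
  have hz : IsPGroup p (zpowers y) := by
    have h1 : orderOf y ∣ p ^ k := orderOf_dvd_of_pow_eq_one hy
    obtain ⟨j, -, hj⟩ := (Nat.dvd_prime_pow (Fact.out : p.Prime)).1 h1
    refine IsPGroup.iff_card.2 ⟨j, ?_⟩
    rw [Nat.card_zpowers, hj]
  have hle : zpowers y ≤ normalizer ((P : Subgroup G) : Set G) := by
    rw [zpowers_le]
    exact hn
  have hsup := IsPGroup.to_sup_of_normal_right' hz P.isPGroup' hle
  have h2 := P.is_maximal' hsup le_sup_right
  rw [← h2]
  exact (le_sup_left : zpowers y ≤ _) (mem_zpowers y)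

omit [Finite G] in
theorem two_pow_of_mem (P : Sylow 2 G) {x : G} (hx : x ∈ (P : Subgroup G)) :
    ∃ k : ℕ, orderOf x = 2 ^ k := by
  obtain ⟨k, hk⟩ := (IsPGroup.iff_orderOf.1 P.isPGroup') ⟨x, hx⟩
  exact ⟨k, by rwa [Subgroup.orderOf_mk] at hk⟩

/-- A `2`-element is conjugate into the center of a given Sylow subgroup. -/
theorem exists_conj_central (hG : TwoCentral G) (P : Sylow 2 G) {x : G}
    (hx : ∃ k : ℕ, orderOf x = 2 ^ k) :
    ∃ g : G, g * x * g⁻¹ ∈ (P : Subgroup G) ∧ g * x * g⁻¹ ∈ centralizer ((P : Subgroup G) : Set G) := by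
  obtain ⟨Q, hQ⟩ := hG x hx
  obtain ⟨k, hk⟩ := hx
  have hcomm : ∀ a ∈ (Q : Subgroup G), x * a = a * x := fun a ha =>
    (mem_centralizer_singleton_iff.1 (hQ ha)).symm
  have hxQ : x ∈ (Q : Subgroup G) := by
    refine mem_of_normalizer Q (k := k) (by rw [← hk]; exact pow_orderOf_eq_one x) ?_
    refine Cfsg.Agent.Lib.PReduced.Basic.normalizer_of_conj_le (fun a ha => ?_) (fun a ha => ?_)
    · rw [hcomm a ha, mul_inv_cancel_right]
      exact ha
    · have h1 : x⁻¹ * a * x = a := by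
        rw [mul_assoc, ← hcomm a ha, inv_mul_cancel_left]
      simpa [h1] using ha
  obtain ⟨g, hg⟩ := MulAction.exists_smul_eq G Q P
  have hmem : ∀ a ∈ (Q : Subgroup G), g * a * g⁻¹ ∈ (P : Subgroup G) := by
    intro a ha
    rw [← hg, Sylow.coe_subgroup_smul]
    exact ⟨a, ha, rfl⟩
  refine ⟨g, hmem x hxQ, ?_⟩
  rw [mem_centralizer_iff]
  intro y hy
  have hy' : y ∈ (g • Q : Sylow 2 G) := by
    rw [hg]
    exact hy
  have hy2 : y ∈ ((g • Q : Sylow 2 G) : Subgroup G) := hy'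
  rw [Sylow.coe_subgroup_smul] at hy2
  obtain ⟨a, ha, rfl⟩ := hy2
  change g * a * g⁻¹ * (g * x * g⁻¹) = g * x * g⁻¹ * (g * a * g⁻¹)
  have e1 : g * a * g⁻¹ * (g * x * g⁻¹) = g * (a * x) * g⁻¹ := by group
  have e2 : g * x * g⁻¹ * (g * a * g⁻¹) = g * (x * a) * g⁻¹ := by group
  rw [e1, e2, hcomm a ha]

/-- Real `2`-elements are involutions. -/
theorem sq_eq_one_of_real (hG : TwoCentral G) {u : G} (hu : ∃ k : ℕ, orderOf u = 2 ^ k) {g : G}
    (hg : g * u * g⁻¹ = u⁻¹) : u ^ 2 = 1 := by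
  obtain ⟨P⟩ : Nonempty (Sylow 2 G) := inferInstance
  obtain ⟨h, hz1, hz2⟩ := exists_conj_central hG P hu
  set z := h * u * h⁻¹ with hz
  have hzi : (h * g⁻¹ * h⁻¹)⁻¹ * z * (h * g⁻¹ * h⁻¹) = z⁻¹ := by
    have e : (h * g⁻¹ * h⁻¹)⁻¹ * z * (h * g⁻¹ * h⁻¹) = h * (g * u * g⁻¹) * h⁻¹ := by
      rw [hz]; group
    rw [e, hg, hz]
    group
  obtain ⟨n, hn, hn2⟩ := P.conj_eq_normalizer_conj_of_mem_centralizer z (h * g⁻¹ * h⁻¹) hz2
    (by rw [hzi]; exact Subgroup.inv_mem _ hz2)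
  rw [hzi] at hn2
  -- `v = n⁻¹` inverts `z`
  set v := n⁻¹ with hv
  have hvn : v ∈ normalizer ((P : Subgroup G) : Set G) := Subgroup.inv_mem _ hn
  have hvz : v * z * v⁻¹ = z⁻¹ := by
    rw [hn2, hv, inv_inv]
  obtain ⟨a, m, hm, ham⟩ := Nat.exists_eq_two_pow_mul_odd (orderOf_pos v).ne'
  obtain ⟨j, rfl⟩ := hm
  set y := v ^ (2 * j + 1) with hy
  have hy1 : y ^ (2 ^ a) = 1 := by
    rw [hy, ← pow_mul, mul_comm, ← ham]
    exact pow_orderOf_eq_one v
  have hyP : y ∈ (P : Subgroup G) :=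
    mem_of_normalizer P hy1 (Subgroup.pow_mem _ hvn _)
  have hv2 : Commute (v ^ 2) z := by
    have e : v ^ 2 * z * (v ^ 2)⁻¹ = z := by
      calc v ^ 2 * z * (v ^ 2)⁻¹ = v * (v * z * v⁻¹) * v⁻¹ := by
            simp only [pow_two, mul_inv_rev, mul_assoc]
        _ = (v * z * v⁻¹)⁻¹ := by
            rw [hvz]
            have : v * z⁻¹ * v⁻¹ = (v * z * v⁻¹)⁻¹ := by group
            rw [this, hvz]
        _ = z := by rw [hvz, inv_inv]
    exact (mul_inv_eq_iff_eq_mul.1 e)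
  have hy2 : y = (v ^ 2) ^ j * v := by
    rw [hy, pow_succ, pow_mul]
  have hyz : y * z * y⁻¹ = z⁻¹ := by
    have hcj : Commute ((v ^ 2) ^ j) z⁻¹ := (hv2.pow_left j).inv_right
    rw [hy2]
    calc (v ^ 2) ^ j * v * z * ((v ^ 2) ^ j * v)⁻¹
        = (v ^ 2) ^ j * (v * z * v⁻¹) * ((v ^ 2) ^ j)⁻¹ := by group
      _ = (v ^ 2) ^ j * z⁻¹ * ((v ^ 2) ^ j)⁻¹ := by rw [hvz]
      _ = z⁻¹ := by rw [hcj.eq, mul_inv_cancel_right]
  have hcomm : y * z = z * y := by
    have := (mem_centralizer_iff.1 hz2) y hyP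
    exact this
  have hzz : z = z⁻¹ := by
    rw [← hyz, hcomm, mul_inv_cancel_right]
  have hz2' : z ^ 2 = 1 := by
    rw [pow_two]
    nth_rewrite 2 [hzz]
    exact mul_inv_cancel z
  have e : h * u ^ 2 * h⁻¹ = z ^ 2 := by
    rw [hz, pow_two, pow_two]; group
  rw [hz2'] at e
  have : u ^ 2 = h⁻¹ * (h * u ^ 2 * h⁻¹) * h := by simp only [mul_assoc, inv_mul_cancel_left, inv_mul_cancel, mul_one]
  rw [this, e]
  simp

/-- Two involutions of a Sylow `2`-subgroup have a product of order at most `2`. -/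
theorem sq_mul_eq_one (hG : TwoCentral G) (P : Sylow 2 G) {a b : G} (ha : a ∈ (P : Subgroup G))
    (hb : b ∈ (P : Subgroup G)) (ha2 : a ^ 2 = 1) (hb2 : b ^ 2 = 1) : (a * b) ^ 2 = 1 := by
  refine sq_eq_one_of_real hG (two_pow_of_mem P (P.toSubgroup.mul_mem ha hb)) (g := a) ?_
  have hai : a⁻¹ = a := by
    rw [inv_eq_iff_mul_eq_one, ← pow_two, ha2]
  have hbi : b⁻¹ = b := by
    rw [inv_eq_iff_mul_eq_one, ← pow_two, hb2]
  rw [mul_inv_rev, hai, hbi]
  calc a * (a * b) * a = (a * a) * b * a := by group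
    _ = b * a := by rw [← pow_two, ha2, one_mul]

/-- The subgroup of elements of order at most `2` of a Sylow `2`-subgroup. -/
def invSub (hG : TwoCentral G) (P : Sylow 2 G) : Subgroup G where
  carrier := {x | x ∈ (P : Subgroup G) ∧ x ^ 2 = 1}
  mul_mem' := fun ha hb => ⟨Subgroup.mul_mem _ ha.1 hb.1, sq_mul_eq_one hG P ha.1 hb.1 ha.2 hb.2⟩
  one_mem' := ⟨Subgroup.one_mem _, one_pow _⟩
  inv_mem' := fun ha => ⟨Subgroup.inv_mem _ ha.1, by rw [inv_pow, ha.2, inv_one]⟩

theorem mem_invSub {hG : TwoCentral G} {P : Sylow 2 G} {x : G} :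
    x ∈ invSub hG P ↔ x ∈ (P : Subgroup G) ∧ x ^ 2 = 1 := Iff.rfl

theorem invSub_comm (hG : TwoCentral G) (P : Sylow 2 G) : IsMulCommutative (invSub hG P) := by
  refine ⟨⟨fun a b => Subtype.ext ?_⟩⟩
  have h1 := a.2.2
  have h2 := b.2.2
  have h3 := sq_mul_eq_one hG P a.2.1 b.2.1 h1 h2
  change (a : G) * b = b * a
  have hai : (a : G)⁻¹ = a := by
    rw [inv_eq_iff_mul_eq_one, ← pow_two, h1]
  have hbi : (b : G)⁻¹ = b := by
    rw [inv_eq_iff_mul_eq_one, ← pow_two, h2]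
  have h4 : ((a : G) * b)⁻¹ = a * b := by
    rw [inv_eq_iff_mul_eq_one, ← pow_two, h3]
  rw [← h4, mul_inv_rev, hai, hbi]

theorem invSub_closed (hG : TwoCentral G) (P : Sylow 2 G) :
    Cfsg.IsStronglyClosed (invSub hG P) (P : Subgroup G) := by
  refine ⟨fun x hx => hx.1, fun x hx g hg => ⟨hg, ?_⟩⟩
  have e : (g * x * g⁻¹) ^ 2 = g * x ^ 2 * g⁻¹ := by
    rw [pow_two, pow_two]; group
  rw [e, hx.2]
  simp

/-- The conjugation into the center can be chosen in `N_G(W)`. -/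
theorem exists_normalizer_conj (hG : TwoCentral G) (P : Sylow 2 G) {x : G}
    (hx : x ∈ (P : Subgroup G)) :
    ∃ n ∈ normalizer ((invSub hG P : Subgroup G) : Set G),
      n * x * n⁻¹ ∈ (P : Subgroup G) ∧ n * x * n⁻¹ ∈ centralizer ((P : Subgroup G) : Set G) := by
  obtain ⟨g, hg1, hg2⟩ := exists_conj_central hG P (two_pow_of_mem P hx)
  have hQ : zpowers x ≤ (P : Subgroup G) := by
    rw [zpowers_le]
    exact hx
  have hmap : ∀ a ∈ zpowers x, g * a * g⁻¹ ∈ (P : Subgroup G) := by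
    rintro _ ⟨i, rfl⟩
    have e : g * x ^ i * g⁻¹ = (g * x * g⁻¹) ^ i := by
      rw [conj_zpow]
    show g * x ^ i * g⁻¹ ∈ (P : Subgroup G)
    rw [e]
    exact Subgroup.zpow_mem _ hg1 i
  obtain ⟨n, hn, hna⟩ := ctrl_main P (invSub_comm hG P) (invSub_closed hG P) _ (zpowers x) hQ rfl g hmap
  have h1 := hna x (mem_zpowers x)
  refine ⟨n, hn, ?_⟩
  rw [← h1]
  exact ⟨hg1, hg2⟩

/-- `W` is central in `P`. -/
theorem invSub_central (hG : TwoCentral G) (P : Sylow 2 G) {x w : G} (hx : x ∈ (P : Subgroup G))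
    (hw : w ∈ invSub hG P) : x * w = w * x := by
  obtain ⟨n, hn, h1, h2⟩ := exists_normalizer_conj hG P hx
  have hw' : n * w * n⁻¹ ∈ invSub hG P := (mem_normalizer_iff.1 hn w).1 hw
  have h3 := (mem_centralizer_iff.1 h2) _ hw'.1
  have e1 : n * w * n⁻¹ * (n * x * n⁻¹) = n * (w * x) * n⁻¹ := by group
  have e2 : n * x * n⁻¹ * (n * w * n⁻¹) = n * (x * w) * n⁻¹ := by group
  rw [e1, e2] at h3
  exact (mul_left_cancel (mul_right_cancel h3)).symm


/-- The main induction. -/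
theorem abelian_main : ∀ (n : ℕ) (G : Type u) [Group G] [Finite G], Nat.card G = n → TwoCentral G →
    ∀ P : Sylow 2 G, IsMulCommutative (P : Subgroup G) := by
  intro n
  induction n using Nat.strong_induction_on with
  | _ n ih =>
    intro G _ _ hn hG P
    classical
    by_cases hd : 2 ∣ Nat.card (P : Subgroup G)
    swap
    · obtain ⟨k, hk⟩ := IsPGroup.iff_card.1 P.isPGroup'
      have h1 : Nat.card (P : Subgroup G) = 1 := by
        cases k with
        | zero => simpa using hk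
        | succ k => exact absurd (hk ▸ dvd_pow_self 2 (Nat.succ_ne_zero k)) hd
      have h2 : Subsingleton (P : Subgroup G) := (Nat.card_eq_one_iff_unique.1 h1).1
      exact ⟨⟨fun a b => Subsingleton.elim _ _⟩⟩
    set W : Subgroup G := invSub hG P with hW
    set N : Subgroup G := normalizer ((W : Subgroup G) : Set G) with hN
    have hPN : (P : Subgroup G) ≤ N := le_normalizer_of_stronglyClosed (invSub_closed hG P)
    have hWN : W ≤ N := le_normalizer
    let W' : Subgroup N := W.subgroupOf N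
    haveI hW'n : W'.Normal := Subgroup.normal_in_normalizer
    let π : N →* N ⧸ W' := QuotientGroup.mk' W'
    have hπ : Function.Surjective π := QuotientGroup.mk'_surjective W'
    let PN : Sylow 2 N := P.subtype hPN
    let P₁ : Sylow 2 (N ⧸ W') := PN.mapSurjective hπ
    have hmem : ∀ y : N ⧸ W', y ∈ (P₁ : Subgroup (N ⧸ W')) ↔ ∃ x : N, (x : G) ∈ (P : Subgroup G) ∧ π x = y := by
      intro y
      have h1 : (P₁ : Subgroup (N ⧸ W')) = (PN : Subgroup N).map π := Sylow.coe_mapSurjective _ _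
      rw [h1]
      constructor
      · rintro ⟨x, hx, rfl⟩
        exact ⟨x, hx, rfl⟩
      · rintro ⟨x, hx, rfl⟩
        exact ⟨x, hx, rfl⟩
    -- commuting with the image of a central element
    have hcomm : ∀ z : N, (z : G) ∈ centralizer ((P : Subgroup G) : Set G) →
        ∀ b ∈ (P₁ : Subgroup (N ⧸ W')), b * π z = π z * b := by
      intro z hz b hb
      obtain ⟨c, hc, rfl⟩ := (hmem b).1 hb
      rw [← map_mul, ← map_mul]
      congr 1
      exact Subtype.ext ((mem_centralizer_iff.1 hz) _ hc)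
    have hG₁ : TwoCentral (N ⧸ W') := by
      intro y hy
      have hyp : IsPGroup 2 (zpowers y) := by
        obtain ⟨k, hk⟩ := hy
        exact IsPGroup.iff_card.2 ⟨k, by rw [Nat.card_zpowers, hk]⟩
      obtain ⟨t, ht⟩ := exists_conj_le_sylow P₁ hyp
      obtain ⟨x, hxP, hxy⟩ := (hmem _).1 (ht y (mem_zpowers y))
      obtain ⟨m, hm, hm1, hm2⟩ := exists_normalizer_conj hG P hxP
      let m' : N := ⟨m, hm⟩
      have hz : ((m' * x * m'⁻¹ : N) : G) ∈ centralizer ((P : Subgroup G) : Set G) := hm2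
      set s : N ⧸ W' := π m' * t with hs
      have hsy : s * y * s⁻¹ = π (m' * x * m'⁻¹) := by
        rw [map_mul, map_mul, map_inv, hxy, hs]
        group
      refine ⟨s⁻¹ • P₁, ?_⟩
      intro a ha
      rw [Sylow.coe_subgroup_smul] at ha
      obtain ⟨b, hb, rfl⟩ := ha
      rw [mem_centralizer_singleton_iff]
      have h1 := hcomm _ hz b hb
      rw [← hsy] at h1
      change s⁻¹ * b * s⁻¹⁻¹ * y = y * (s⁻¹ * b * s⁻¹⁻¹)
      have e1 : s⁻¹ * b * s⁻¹⁻¹ * y = s⁻¹ * (b * (s * y * s⁻¹)) * s := by group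
      have e2 : y * (s⁻¹ * b * s⁻¹⁻¹) = s⁻¹ * ((s * y * s⁻¹) * b) * s := by group
      rw [e1, e2, h1]
    have hcard : Nat.card (N ⧸ W') < n := by
      obtain ⟨t, ht⟩ := exists_prime_orderOf_dvd_card' (G := (P : Subgroup G)) 2 hd
      have ht1 : ((t : G)) ^ 2 = 1 := by
        have h1 := pow_orderOf_eq_one t
        rw [ht] at h1
        exact congrArg Subtype.val h1
      have htW : (t : G) ∈ W := ⟨t.2, ht1⟩
      have htne : (t : G) ≠ 1 := by
        intro h
        have h2 : t = 1 := Subtype.ext h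
        rw [h2, orderOf_one] at ht
        omega
      have h1 : Nat.card N = Nat.card (N ⧸ W') * Nat.card W' :=
        Subgroup.card_eq_card_quotient_mul_card_subgroup W'
      have h2 : 1 < Nat.card W' := by
        have : W' ≠ ⊥ := by
          intro h
          have h3 : (⟨(t : G), hWN htW⟩ : N) ∈ W' := htW
          rw [h, Subgroup.mem_bot] at h3
          exact htne (congrArg Subtype.val h3)
        exact (Subgroup.one_lt_card_iff_ne_bot _).2 this
      have h3 : Nat.card N ≤ Nat.card G := Subgroup.card_le_card_group N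
      have h4 : 0 < Nat.card (N ⧸ W') := Nat.card_pos
      rw [← hn]
      nlinarith
    have hab : IsMulCommutative (P₁ : Subgroup (N ⧸ W')) := ih _ hcard _ rfl hG₁ P₁
    -- a useful element-wise form
    have hnorm : ∀ u : N, π u ∈ normalizer ((P₁ : Subgroup (N ⧸ W')) : Set (N ⧸ W')) →
        ∀ a ∈ (P : Subgroup G), (u : G) * a * (u : G)⁻¹ ∈ (P : Subgroup G) := by
      intro u hu a ha
      have hap : π ⟨a, hPN ha⟩ ∈ (P₁ : Subgroup (N ⧸ W')) := (hmem _).2 ⟨_, ha, rfl⟩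
      have h1 := (mem_normalizer_iff.1 hu _).1 hap
      obtain ⟨c, hc, hc2⟩ := (hmem _).1 h1
      have h2 : π c = π (u * ⟨a, hPN ha⟩ * u⁻¹) := by
        rw [hc2]
        simp only [map_mul, map_inv]
      have h3 : c⁻¹ * (u * ⟨a, hPN ha⟩ * u⁻¹) ∈ W' := QuotientGroup.eq.1 h2
      have h4 : (c : G)⁻¹ * ((u : G) * a * (u : G)⁻¹) ∈ W := h3
      have h5 := P.toSubgroup.mul_mem hc h4.1
      simpa using h5
    have hcen : ∀ x ∈ (P : Subgroup G), x ∈ centralizer ((P : Subgroup G) : Set G) := by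
      intro x hx
      obtain ⟨m, hm, hm1, hm2⟩ := exists_normalizer_conj hG P hx
      let x' : N := ⟨x, hPN hx⟩
      let m' : N := ⟨m, hm⟩
      have hxb : π x' ∈ (P₁ : Subgroup (N ⧸ W')) := (hmem _).2 ⟨x', hx, rfl⟩
      have hzb : π (m' * x' * m'⁻¹) ∈ (P₁ : Subgroup (N ⧸ W')) := (hmem _).2 ⟨_, hm1, rfl⟩
      obtain ⟨l, hl, hl2⟩ := P₁.conj_eq_normalizer_conj_of_mem (π x') (π m')⁻¹ hxb (by
        have : (π m')⁻¹⁻¹ * π x' * (π m')⁻¹ = π (m' * x' * m'⁻¹) := by simp
        rw [this]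
        exact hzb)
      obtain ⟨μ, hμ⟩ := hπ l⁻¹
      have hμn : π μ ∈ normalizer ((P₁ : Subgroup (N ⧸ W')) : Set (N ⧸ W')) := by
        rw [hμ]
        exact Subgroup.inv_mem _ hl
      have hμin : π μ⁻¹ ∈ normalizer ((P₁ : Subgroup (N ⧸ W')) : Set (N ⧸ W')) := by
        rw [map_inv]
        exact Subgroup.inv_mem _ hμn
      have hμ1 := hnorm μ hμn
      have hμ2 := hnorm μ⁻¹ hμin
      have h1 : π (m' * x' * m'⁻¹) = π (μ * x' * μ⁻¹) := by
        have h2 : (π m')⁻¹⁻¹ * π x' * (π m')⁻¹ = π (m' * x' * m'⁻¹) := by simp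
        rw [← h2, hl2, map_mul, map_mul, map_inv, hμ, inv_inv]
      have h2 : (m' * x' * m'⁻¹)⁻¹ * (μ * x' * μ⁻¹) ∈ W' := QuotientGroup.eq.1 h1
      have h3 : (m * x * m⁻¹)⁻¹ * ((μ : G) * x * (μ : G)⁻¹) ∈ W := h2
      have h4 : (μ : G) * x * (μ : G)⁻¹ ∈ centralizer ((P : Subgroup G) : Set G) := by
        have e : (μ : G) * x * (μ : G)⁻¹ =
            (m * x * m⁻¹) * ((m * x * m⁻¹)⁻¹ * ((μ : G) * x * (μ : G)⁻¹)) := by group
        rw [e]
        refine Subgroup.mul_mem _ hm2 ?_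
        rw [mem_centralizer_iff]
        intro a ha
        exact invSub_central hG P ha h3
      rw [mem_centralizer_iff]
      intro a ha
      have h5 := (mem_centralizer_iff.1 h4) _ (hμ1 a ha)
      have e1 : (μ : G) * a * (μ : G)⁻¹ * ((μ : G) * x * (μ : G)⁻¹) = (μ : G) * (a * x) * (μ : G)⁻¹ := by
        group
      have e2 : (μ : G) * x * (μ : G)⁻¹ * ((μ : G) * a * (μ : G)⁻¹) = (μ : G) * (x * a) * (μ : G)⁻¹ := by
        group
      rw [e1, e2] at h5
      exact mul_left_cancel (mul_right_cancel h5)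
    exact ⟨⟨fun a b => Subtype.ext ((mem_centralizer_iff.1 (hcen b b.2)) a a.2)⟩⟩

/-- All `2`-elements `2`-central implies Sylow `2`-subgroups abelian. -/
theorem isMulCommutative_of_twoCentral (hG : TwoCentral G) (P : Sylow 2 G) :
    IsMulCommutative (P : Subgroup G) :=
  abelian_main _ G rfl hG P

/-- Abelian Sylow `2`-subgroups imply all `2`-elements `2`-central. -/
theorem twoCentral_of_isMulCommutative (P : Sylow 2 G) (hP : IsMulCommutative (P : Subgroup G)) :
    TwoCentral G := by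
  intro x hx
  obtain ⟨k, hk⟩ := hx
  have hyp : IsPGroup 2 (zpowers x) := IsPGroup.iff_card.2 ⟨k, by rw [Nat.card_zpowers, hk]⟩
  obtain ⟨Q, hQ⟩ := hyp.exists_le_sylow
  obtain ⟨g, hg⟩ := MulAction.exists_smul_eq G P Q
  have hcomm : ∀ a ∈ (Q : Subgroup G), ∀ b ∈ (Q : Subgroup G), a * b = b * a := by
    intro a ha b hb
    have ha' : a ∈ ((g • P : Sylow 2 G) : Subgroup G) := by rw [hg]; exact ha
    have hb' : b ∈ ((g • P : Sylow 2 G) : Subgroup G) := by rw [hg]; exact hb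
    rw [Sylow.coe_subgroup_smul] at ha' hb'
    obtain ⟨a', ha', rfl⟩ := ha'
    obtain ⟨b', hb', rfl⟩ := hb'
    have h1 : a' * b' = b' * a' := congrArg Subtype.val (hP.is_comm.comm ⟨a', ha'⟩ ⟨b', hb'⟩)
    change g * a' * g⁻¹ * (g * b' * g⁻¹) = g * b' * g⁻¹ * (g * a' * g⁻¹)
    have e1 : g * a' * g⁻¹ * (g * b' * g⁻¹) = g * (a' * b') * g⁻¹ := by group
    have e2 : g * b' * g⁻¹ * (g * a' * g⁻¹) = g * (b' * a') * g⁻¹ := by group
    rw [e1, e2, h1]
  refine ⟨Q, fun a ha => ?_⟩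
  rw [mem_centralizer_singleton_iff]
  exact hcomm a ha x (hQ (mem_zpowers x))

/-- Odd class sizes give `2`-centrality. -/
theorem twoCentral_of_odd
    (h : ∀ x : G, (∃ k : ℕ, orderOf x = 2 ^ k) → ¬ 2 ∣ (centralizer ({x} : Set G)).index) :
    TwoCentral G := by
  intro x hx
  have h1 := h x hx
  set C := centralizer ({x} : Set G) with hC
  obtain ⟨T⟩ : Nonempty (Sylow 2 C) := inferInstance
  have hp : IsPGroup 2 ((T : Subgroup C).map C.subtype) := T.isPGroup'.map _
  have hidx : ¬ 2 ∣ ((T : Subgroup C).map C.subtype).index := by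
    rw [Subgroup.index_map_subtype]
    intro h2
    rcases (Nat.Prime.dvd_mul Nat.prime_two).1 h2 with h3 | h3
    · exact T.not_dvd_index h3
    · exact h1 h3
  refine ⟨hp.toSylow hidx, ?_⟩
  exact Subgroup.map_subtype_le _

end Cfsg.Agent.Lib.Coprime.OddClass
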